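import Groth.Agent.H29Frob.GenusLe
import Groth.Agent.H29CurveDual.EtaleP1

/-! A finite purely inseparable morphism of smooth proper curves over an algebraically closed field
has isomorphic source and target. -/

set_option autoImplicit false
set_option linter.style.haveILetI false

universe u

open CategoryTheory CategoryTheory.Limits AlgebraicGeometry TopologicalSpace FrobSch IntermediateField
open Groth.Agent.H29Frob

namespace Groth.Agent.H8Props.InsepCurve

attribute [local instance 10000] H10Coh.hasSheafifyAb H10Coh.hasWeakSheafifyAb H10Coh.hasExtAb H10Coh.enoughInjAb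

/-- A surjective map on function fields is an isomorphism at the generic point. -/
theorem isIso_stalkMap_generic {X Y : Scheme.{u}} [IsIntegral X] [IsIntegral Y] (f : X ⟶ Y)
    (e : f (genericPoint X) = genericPoint Y)
    (hs : Function.Surjective (Y.presheaf.stalkSpecializes (specializes_of_eq e) ≫ f.stalkMap (genericPoint X)).hom) :
    IsIso (f.stalkMap (genericPoint X)) := by
  haveI : IsIso (Y.presheaf.stalkSpecializes (specializes_of_eq e)) :=
    ⟨Y.presheaf.stalkSpecializes (specializes_of_eq e.symm), by simp, by simp⟩
  haveI : IsIso (Y.presheaf.stalkSpecializes (specializes_of_eq e) ≫ f.stalkMap (genericPoint X)) :=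
    (ConcreteCategory.isIso_iff_bijective _).2
      ⟨RingHom.injective (R := Y.functionField)
        (Y.presheaf.stalkSpecializes (specializes_of_eq e) ≫ f.stalkMap (genericPoint X)).hom, hs⟩
  exact IsIso.of_isIso_comp_left (Y.presheaf.stalkSpecializes (specializes_of_eq e)) _

variable {k : Type u} [Field k] [IsAlgClosed k]

/-- Source and target of a purely inseparable finite morphism of smooth proper curves are isomorphic. -/
theorem nonempty_iso {X Y : Scheme.{u}} [IsIntegral X] [IsIntegral Y]
    (q : Y ⟶ Spec (CommRingCat.of k)) [IsProper q] [Smooth q] (hY : topologicalKrullDim Y = 1)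
    (hX : topologicalKrullDim X = 1) :
    ∀ (n : ℕ) (p : X ⟶ Spec (CommRingCat.of k)) [IsProper p] [Smooth p] (f : X ⟶ Y) [IsFinite f]
      (e : f (genericPoint X) = genericPoint Y),
      f ≫ q = p → f.residueDegree (genericPoint X) = n →
      (letI := H29Disc.funAlg f e; IsPurelyInseparable Y.functionField X.functionField) →
      Nonempty (X ≅ Y) := by
  intro n
  induction n using Nat.strong_induction_on with
  | _ n ih =>
    intro p _ _ f _ e hf hn hins
    letI := H26LocSym.constAlg p
    haveI : H26LocSym.Curve p := ⟨inferInstance, inferInstance, hX⟩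
    have hK := H26LocSym.isFunctionField p
    letI := H29Disc.funAlg f e
    letI : Algebra k Y.functionField := (LocSym.constFun q).toAlgebra
    haveI hT : IsScalarTower k Y.functionField X.functionField := IsScalarTower.of_algebraMap_eq fun c => by
      haveI : Nonempty (⊤ : Y.Opens) := ⟨⟨genericPoint Y, trivial⟩⟩
      haveI : Nonempty (f ⁻¹ᵁ (⊤ : Y.Opens) : X.Opens) := ⟨⟨genericPoint X, trivial⟩⟩
      refine Eq.trans ?_ (H29Disc.funAlg_germ f e ⊤ _).symm
      show X.presheaf.germ ⊤ (genericPoint X) trivial (p.appTop _) = _
      rw [← hf, Scheme.Hom.comp_appTop]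
      rfl
    haveI : IsPurelyInseparable Y.functionField X.functionField := hins
    by_cases hsep : Algebra.IsSeparable Y.functionField X.functionField
    · haveI := hsep
      haveI := isIso_stalkMap_generic f e
        (IsPurelyInseparable.surjective_algebraMap_of_isSeparable Y.functionField X.functionField)
      haveI := S4808.result (fun y => (H28Neron.isNormalScheme_of_smooth q
        (H29DoubleCover.isNormalScheme_spec_field k) y).2) f e inferInstance
      exact ⟨asIso f⟩
    have hnosep : ∀ l : Y.functionField,
        ¬ Algebra.IsSeparable (adjoin k ({algebraMap Y.functionField X.functionField l} : Set X.functionField))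
          X.functionField := fun l hl => by
      set E := adjoin k ({algebraMap Y.functionField X.functionField l} : Set X.functionField)
      set φ := IsScalarTower.toAlgHom k Y.functionField X.functionField
      have hE : E ≤ φ.fieldRange := adjoin_le_iff.2 (by
        rintro _ rfl
        exact ⟨l, rfl⟩)
      let ι : E →+* Y.functionField :=
        ((AlgEquiv.ofInjectiveField φ).symm.toAlgHom.comp (inclusion hE)).toRingHom
      have hι : ∀ z : E, φ (ι z) = (z : X.functionField) := fun z =>
        congrArg Subtype.val ((AlgEquiv.ofInjectiveField φ).apply_symm_apply (inclusion hE z))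
      refine hsep ⟨fun z => ?_⟩
      refine (Polynomial.Separable.map (Algebra.IsSeparable.isSeparable E z) (f := ι)).of_dvd
        (minpoly.dvd Y.functionField z ?_)
      rw [Polynomial.aeval_def, Polynomial.eval₂_map,
        show (algebraMap Y.functionField X.functionField).comp ι = algebraMap E X.functionField from RingHom.ext hι,
        ← Polynomial.aeval_def, minpoly.aeval]
    rcases CharP.exists' k with h0 | ⟨ℓ, hℓ, hℓk⟩
    · -- characteristic zero
      exfalso
      haveI : CharZero Y.functionField :=
        charZero_of_injective_algebraMap (algebraMap k Y.functionField).injective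
      exact hsep inferInstance
    haveI := hℓ
    haveI := hℓk
    haveI : CharP X.functionField ℓ := charP_of_injective_algebraMap (algebraMap k X.functionField).injective ℓ
    -- all pullbacks are powers
    have hpow : ∀ l : Y.functionField, ∃ y, y ^ ℓ = algebraMap Y.functionField X.functionField l := by
      intro l
      by_contra hl
      push_neg at hl
      exact hnosep l (isSeparable_of_not_pow hK ℓ hl)
    haveI : IsCharP X ℓ := IsCharP.of_hom p ℓ
    haveI : IsCharP (Spec (CommRingCat.of k)) ℓ := inferInstance
    have hNX : ∀ x : X, IsIntegrallyClosed (X.presheaf.stalk x) := fun x =>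
      (H28Neron.isNormalScheme_of_smooth p (H29DoubleCover.isNormalScheme_spec_field k) x).2
    obtain ⟨h, hh⟩ := exists_root (p := ℓ) (fun V hV => by
      rcases isEmpty_or_nonempty V with hV' | hV'
      · haveI : Subsingleton Γ(X, V) := by
          rw [show V = ⊥ from eq_bot_iff.2 fun x hx => hV'.elim' ⟨x, hx⟩]; infer_instance
        exact inferInstance
      · exact H7Lim.isIntegrallyClosed_section hNX hV) f (fun U V le _ hU hV s => by
      have hηV : genericPoint X ∈ V := (genericPoint_spec X).mem_open_set_iff V.2 |>.2
        ⟨_, trivial, Nonempty.some (α := V) inferInstance |>.2⟩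
      haveI : Nonempty U := ⟨⟨_, le hηV⟩⟩
      haveI : Nonempty (f ⁻¹ᵁ U : X.Opens) := ⟨⟨_, le hηV⟩⟩
      obtain ⟨y, hy⟩ := hpow (Y.germToFunctionField U s)
      refine ⟨y, hy.trans ((H29Disc.funAlg_germ f e U s).trans ?_)⟩
      exact (TopCat.Presheaf.germ_res_apply X.presheaf (homOfLE le) (genericPoint X) hηV (f.app U s)).symm)
    -- the twisted structure
    haveI : PerfectRing k ℓ := PerfectField.toPerfectRing ℓ
    let τ := (frobeniusEquiv k ℓ).symm
    haveI : IsIso (CommRingCat.ofHom τ.toRingHom) := (ConcreteCategory.isIso_iff_bijective _).2 τ.bijective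
    let p' := p ≫ Spec.map (CommRingCat.ofHom τ.toRingHom)
    haveI : IsProper p' := inferInstance
    haveI : Smooth p' := inferInstance
    have hp' : frob X ℓ ≫ p' = p := by
      show frob X ℓ ≫ p ≫ _ = p
      rw [frob_comp_assoc, H27Perf.frob_Spec, ← Spec.map_comp,
        show CommRingCat.ofHom τ.toRingHom ≫ CommRingCat.ofHom (powHom ℓ (CommRingCat.of k)
          H27Perf.natCast_eq_zero_of_isCharP_Spec) = 𝟙 _ from CommRingCat.hom_ext
            (RingHom.ext fun c => frobeniusEquiv_symm_pow_p k ℓ c), Spec.map_id, Category.comp_id]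
    have hq' : h ≫ q = p' := cancel_frob (p := ℓ) (by rw [hp', reassoc_of% hh, hf])
    have he' : h (genericPoint X) = genericPoint Y := by
      rw [← e, ← hh, Scheme.Hom.comp_apply, frob_apply]
    haveI : IsProper h := by
      haveI : IsProper (h ≫ q) := by rw [hq']; infer_instance
      exact IsProper.of_comp h q
    letI : X.Over (Spec (CommRingCat.of k)) := ⟨p⟩
    haveI : IsProper (X ↘ Spec (CommRingCat.of k)) := ‹IsProper p›
    haveI := H29RR.isNoetherian_of_proper (k := k) (X := X)
    haveI : JacobsonSpace X := LocallyOfFiniteType.jacobsonSpace p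
    haveI : IsFinite h := H29DoubleCover.isFinite_of_dominant hX.le h (by
      obtain ⟨a, b, hab⟩ := H29DoubleCover.exists_ne_of_isFinite hX f
      refine ⟨a, b, ?_⟩
      rwa [← hh, Scheme.Hom.comp_apply, Scheme.Hom.comp_apply, frob_apply, frob_apply] at hab)
    -- the degree drops
    have hF : (frob X ℓ).residueDegree (genericPoint X) ≠ 1 := by
      intro h1
      haveI := H29CurveDual.isIso_stalkMap_of_residueDegree_one (frob X ℓ) rfl h1
      obtain ⟨t, -, ht⟩ := H23Geom.exists_separating hK (H23Geom.isGeometric_of_perfectField hK)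
      haveI := ht
      obtain ⟨y, hy⟩ := (ConcreteCategory.bijective_of_isIso ((frob X ℓ).stalkMap (genericPoint X))).2 t
      refine H23Geom.D_ne_zero hK (x := t) ?_
      obtain ⟨W, hW, s, rfl⟩ := X.presheaf.exists_germ_eq (x := genericPoint X) y
      rw [← hy]
      erw [Scheme.Hom.germ_stalkMap_apply]
      rw [frob_app]
      erw [map_pow]
      rw [Derivation.leibniz_pow, ← Nat.cast_smul_eq_nsmul X.functionField]
      erw [CharP.cast_eq_zero X.functionField ℓ]
      exact zero_smul _ _
    have hpos : f.residueDegree (genericPoint X) ≠ 0 := by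
      haveI : IsLocallyNoetherian Y := LocallyOfFiniteType.isLocallyNoetherian q
      haveI : Flat f := H29Curve.flat_of_dominant_normal f e
        (fun y => (H28Neron.isNormalScheme_of_smooth q (H29DoubleCover.isNormalScheme_spec_field k) y).2) hY.le
      haveI : IsDominant f := ⟨(dense_iff_closure_eq).2 (Set.eq_univ_of_univ_subset (by
        rw [← (genericPoint_spec Y).def, ← e]
        exact closure_mono (Set.singleton_subset_iff.2 ⟨_, rfl⟩)))⟩
      rw [← H27FibreRank.finrank_genericPoint f (H27FibreRank.preimage_genericPoint p q f hf (hX.trans hY.symm)), ← e]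
      exact Nat.one_le_iff_ne_zero.1 (Scheme.Hom.one_le_finrank_map f _)
    have hmul : f.residueDegree (genericPoint X) =
        h.residueDegree (genericPoint X) * (frob X ℓ).residueDegree (genericPoint X) := by
      rw [← hh, H22Alg.CycBasic.residueDegree_comp, frob_apply]
    have hlt : h.residueDegree (genericPoint X) < n := by
      rw [hmul] at hpos
      have h0 := Nat.mul_ne_zero_iff.1 hpos
      rw [← hn, hmul]
      exact lt_mul_of_one_lt_right (by omega) (by omega)
    haveI : CharP Y.functionField ℓ := charP_of_injective_algebraMap (algebraMap k Y.functionField).injective ℓ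
    haveI : ExpChar Y.functionField ℓ := ExpChar.prime Fact.out
    haveI : ExpChar X.functionField ℓ := ExpChar.prime Fact.out
    have key : ∀ y : Y.functionField, @algebraMap _ _ _ _ (H29Disc.funAlg f e) y =
        (@algebraMap _ _ _ _ (H29Disc.funAlg h he') y) ^ ℓ := by
      intro y
      obtain ⟨W, hW, s, rfl⟩ := Y.presheaf.exists_germ_eq (x := genericPoint Y) y
      haveI : Nonempty W := ⟨⟨_, hW⟩⟩
      haveI : Nonempty (f ⁻¹ᵁ W : X.Opens) := H29Disc.nonempty_preimage f e W ⟨_, hW⟩
      haveI : Nonempty (h ⁻¹ᵁ W : X.Opens) := H29Disc.nonempty_preimage h he' W ⟨_, hW⟩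
      refine (H29Disc.funAlg_germ f e W s).trans (Eq.trans ?_ (congrArg (· ^ ℓ) (H29Disc.funAlg_germ h he' W s)).symm)
      subst hh
      haveI : Nonempty (frob X ℓ ⁻¹ᵁ (h ⁻¹ᵁ W) : X.Opens) := ‹Nonempty ((frob X ℓ ≫ h) ⁻¹ᵁ W : X.Opens)›
      rw [Scheme.Hom.comp_app]
      show X.germToFunctionField (frob X ℓ ⁻¹ᵁ (h ⁻¹ᵁ W)) ((frob X ℓ).app _ (h.app W s)) = _
      rw [frob_app]
      exact map_pow (X.germToFunctionField (h ⁻¹ᵁ W)).hom (h.app W s) ℓ
    have hpm : ∀ z : X.functionField, ∃ (m : ℕ) (y : Y.functionField),
        (@algebraMap _ _ _ _ (H29Disc.funAlg h he') y) = z ^ ℓ ^ m := fun z => by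
      obtain ⟨m, y, hy⟩ := IsPurelyInseparable.pow_mem Y.functionField ℓ z
      have hy' := (key y).symm.trans hy
      cases m with
      | zero => exact ⟨0, y ^ ℓ, by rw [map_pow]; exact hy'⟩
      | succ m => exact ⟨m, y, frobenius_inj X.functionField ℓ (by
          rw [frobenius_def, frobenius_def, ← pow_mul, ← pow_succ]; exact hy')⟩
    have hinsH : letI := H29Disc.funAlg h he'; IsPurelyInseparable Y.functionField X.functionField :=
      letI := H29Disc.funAlg h he'
      (isPurelyInseparable_iff_pow_mem Y.functionField ℓ).2 fun z => by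
        obtain ⟨m, y, hy⟩ := hpm z
        exact ⟨m, y, hy⟩
    exact ih _ hlt p' h he' hq' rfl hinsH

end Groth.Agent.H8Props.InsepCurve
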